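import Mathlib

/-! Homogeneous generators of the irrelevant ideal of a `ℤ`-graded algebra. -/

set_option autoImplicit false
universe u v

namespace GrPosLib

open DirectSum

variable {R : Type u} {A : Type v} [CommRing R] [CommRing A] [Algebra R A]
  (𝒜 : ℤ → Submodule R A) [GradedAlgebra 𝒜] {p : ℕ} (f : Fin p → A) (deg : Fin p → ℤ)

/-- A homogeneous element of positive degree is a combination of the generators with homogeneous
coefficients. -/
theorem exists_decomp (hf : ∀ i, f i ∈ 𝒜 (deg i))
    (hgen : Ideal.span {a : A | ∃ n : ℤ, 0 < n ∧ a ∈ 𝒜 n} = Ideal.span (Set.range f))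
    {N : ℤ} (hN : 0 < N) {a : A} (ha : a ∈ 𝒜 N) :
    ∃ c : Fin p → A, (∀ i, c i ∈ 𝒜 (N - deg i)) ∧ a = ∑ i, c i * f i := by
  classical
  have h1 : a ∈ Ideal.span (Set.range f) := hgen ▸ Ideal.subset_span ⟨N, hN, ha⟩
  obtain ⟨r, hr⟩ := Ideal.mem_span_range_iff_exists_fun.1 h1
  refine ⟨fun i => (decompose 𝒜 (r i) (N - deg i) : A), fun i => SetLike.coe_mem _, ?_⟩
  have h2 : a = (decompose 𝒜 (∑ i, r i * f i) N : A) := by
    rw [hr, decompose_of_mem_same 𝒜 ha]
  conv_lhs => rw [h2, decompose_sum, DFinsupp.finsetSum_apply, AddSubmonoidClass.coe_finsetSum]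
  refine Finset.sum_congr rfl fun i _ => ?_
  conv_lhs => rw [← sub_add_cancel N (deg i)]
  exact coe_decompose_mul_add_of_right_mem 𝒜 (hf i)

/-- `A_N = A_d * A_{N-d}` in large degree. -/
theorem eq_mul (hdeg : ∀ i, 0 < deg i) (hf : ∀ i, f i ∈ 𝒜 (deg i))
    (hgen : Ideal.span {a : A | ∃ n : ℤ, 0 < n ∧ a ∈ 𝒜 n} = Ideal.span (Set.range f))
    (d : ℤ) (hd : 0 < d) (hdvd : ∀ i, deg i ∣ d) (N : ℤ) (hN : d * p - ∑ i, deg i < N) :
    𝒜 N = 𝒜 d * 𝒜 (N - d) := by
  classical
  refine le_antisymm ?_ (Submodule.mul_le.2 fun x hx y hy => ?_)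
  swap
  · have := SetLike.mul_mem_graded hx hy
    rwa [add_sub_cancel] at this
  have key : ∀ (k : ℕ) (e : Fin p → ℕ), (∀ i, (e i : ℤ) * deg i ≤ d - deg i) →
      (∑ i, (d - deg i - (e i : ℤ) * deg i)).toNat = k →
      ∀ a ∈ 𝒜 (N - ∑ i, (e i : ℤ) * deg i), a * ∏ i, f i ^ e i ∈ 𝒜 d * 𝒜 (N - d) := by
    intro k
    induction k using Nat.strong_induction_on with
    | _ k ih =>
      intro e he hk a ha
      have hsum : ∑ i, (e i : ℤ) * deg i ≤ ∑ i, (d - deg i) := Finset.sum_le_sum fun i _ => he i
      have hpos : 0 < N - ∑ i, (e i : ℤ) * deg i := by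
        rw [Finset.sum_sub_distrib, Finset.sum_const, Finset.card_univ, Fintype.card_fin,
          nsmul_eq_mul] at hsum
        linarith
      obtain ⟨c, hc, hac⟩ := exists_decomp 𝒜 f deg hf hgen hpos ha
      rw [hac, Finset.sum_mul]
      refine Submodule.sum_mem _ fun i _ => ?_
      set e' := Function.update e i (e i + 1) with he'
      have hprod : f i * ∏ j, f j ^ e j = ∏ j, f j ^ e' j := by
        rw [← Finset.mul_prod_erase _ _ (Finset.mem_univ i),
          ← Finset.mul_prod_erase _ (fun j => f j ^ e' j) (Finset.mem_univ i), ← mul_assoc, ← pow_succ']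
        simp only [he', Function.update_self]
        congr 1
        exact Finset.prod_congr rfl fun j hj => by
          rw [Function.update_of_ne (Finset.ne_of_mem_erase hj)]
      have hdege : ∑ j, (e' j : ℤ) * deg j = ∑ j, (e j : ℤ) * deg j + deg i := by
        rw [← Finset.add_sum_erase _ _ (Finset.mem_univ i),
          ← Finset.add_sum_erase _ (fun j => (e j : ℤ) * deg j) (Finset.mem_univ i)]
        have : ∀ j ∈ (Finset.univ : Finset (Fin p)).erase i, (e' j : ℤ) * deg j = (e j : ℤ) * deg j :=
          fun j hj => by rw [he', Function.update_of_ne (Finset.ne_of_mem_erase hj)]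
        rw [Finset.sum_congr rfl this, he', Function.update_self]
        push_cast
        ring
      rw [mul_assoc, hprod]
      by_cases hle : ((e i + 1 : ℕ) : ℤ) * deg i ≤ d - deg i
      · have he2 : ∀ j, (e' j : ℤ) * deg j ≤ d - deg j := fun j => by
          by_cases hj : j = i
          · subst hj; rw [he', Function.update_self]; exact hle
          · rw [he', Function.update_of_ne hj]; exact he j
        refine ih _ ?_ e' he2 rfl (c i) ?_
        · rw [← hk, Int.toNat_lt_toNat]
          · rw [Finset.sum_sub_distrib, Finset.sum_sub_distrib (g := fun j => (e j : ℤ) * deg j), hdege]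
            linarith [hdeg i]
          · refine lt_of_lt_of_le ?_ (Finset.single_le_sum
              (f := fun j => d - deg j - (e j : ℤ) * deg j) (fun j _ => by linarith [he j])
              (Finset.mem_univ i))
            push_cast at hle
            nlinarith [hdeg i]
        · rw [hdege, ← sub_sub]
          exact hc i
      · obtain ⟨q, hq⟩ := hdvd i
        have heq : ((e i + 1 : ℕ) : ℤ) * deg i = d := by
          push_cast at hle ⊢
          have h1 : (e i : ℤ) + 1 ≤ q := by nlinarith [he i, hdeg i]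
          have h2 : q ≤ (e i : ℤ) + 1 := by nlinarith [hdeg i]
          rw [hq, le_antisymm h1 h2]
          ring
        rw [← Finset.mul_prod_erase _ (fun j => f j ^ e' j) (Finset.mem_univ i), mul_left_comm]
        refine Submodule.mul_mem_mul ?_ ?_
        · have := SetLike.pow_mem_graded (e i + 1) (hf i)
          rw [nsmul_eq_mul, heq] at this
          simpa [he'] using this
        · have h3 : ∏ j ∈ Finset.univ.erase i, f j ^ e' j ∈
              𝒜 (∑ j ∈ Finset.univ.erase i, (e' j : ℤ) * deg j) :=
            SetLike.prod_mem_graded 𝒜 _ _ fun j _ => by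
              simpa [nsmul_eq_mul] using SetLike.pow_mem_graded (e' j) (hf j)
          have h4 := SetLike.mul_mem_graded (hc i) h3
          have h5 := Finset.add_sum_erase Finset.univ (fun j => (e' j : ℤ) * deg j) (Finset.mem_univ i)
          simp only [he', Function.update_self, heq] at h5 hdege
          convert h4 using 2
          simp only [he']
          linarith
  intro a ha
  have := key _ (fun _ => 0) (fun i => by
    rw [Nat.cast_zero, zero_mul]
    linarith [Int.le_of_dvd hd (hdvd i)]) rfl a (by simpa using ha)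
  simpa using this

/-- In large degree everything lies in a prescribed power of `A_d` times the rest. -/
theorem le_pow_mul (hdeg : ∀ i, 0 < deg i) (hf : ∀ i, f i ∈ 𝒜 (deg i))
    (hgen : Ideal.span {a : A | ∃ n : ℤ, 0 < n ∧ a ∈ 𝒜 n} = Ideal.span (Set.range f))
    (d : ℤ) (hd : 0 < d) (hdvd : ∀ i, deg i ∣ d) :
    ∀ (k : ℕ) (N : ℤ), d * p - ∑ i, deg i + k * d < N → 𝒜 N ≤ 𝒜 d ^ k * 𝒜 (N - k * d) := by
  intro k
  induction k with
  | zero => intro N _; simp
  | succ k ih =>
    intro N hN
    push_cast at hN
    have hk : (0 : ℤ) ≤ k * d := by positivity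
    rw [eq_mul 𝒜 f deg hdeg hf hgen d hd hdvd N (by linarith), pow_succ', mul_assoc]
    refine mul_le_mul' le_rfl ?_
    refine (ih (N - d) (by linarith)).trans (le_of_eq ?_)
    congr 2
    push_cast
    ring

end GrPosLib
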